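import Cfsg.Agent.H0.PG2
set_option maxRecDepth 100000
set_option Elab.async false
set_option linter.unusedSectionVars false
namespace H0.MJ2p
open H0 BN 
noncomputable def n0 : Net := (Net.cons (nat_lit 64) (nat_lit 0x7c968a7cd3a61402) (Net.cons (nat_lit 32) (nat_lit 0x781cac420000000018a04906) (Net.cons (nat_lit 16) (nat_lit 0xc8080000dbed00007f000000f12e) (Net.cons (nat_lit 8) (nat_lit 0x3c0058009b0051006c0019000800c6) (Net.cons (nat_lit 4) (nat_lit 0x80406060f030e010900000c0f030a06) (Net.cons (nat_lit 2) (nat_lit 0x20321020022201102021021011312022) (Net.cons (nat_lit 1) (nat_lit 0x14000041444114100000000014414511) (Net.cons (nat_lit 2) (nat_lit 0x20000020220000200000000022202022) (Net.cons (nat_lit 4) (nat_lit 0x8040406000a06000008000400040a00) (Net.cons (nat_lit 8) (nat_lit 0x3c00100040009000840018000800c6) (Net.cons (nat_lit 16) (nat_lit 0xc8080000c34800007f000000f12e) (Net.cons (nat_lit 32) (nat_lit 0x781cac400000000018a04904)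 (Net.cons (nat_lit 64) (nat_lit 0x7c968a7ad3a61400) Net.nil)))))))))))))
noncomputable def n1 : Net := (Net.cons (nat_lit 64) (nat_lit 0xa643d4cf875bce46) (Net.cons (nat_lit 32) (nat_lit 0xa1ead1ca000000004cd7cd0e) (Net.cons (nat_lit 16) (nat_lit 0xe28200005457000033bc0000b820) (Net.cons (nat_lit 8) (nat_lit 0xca00cc00300038002f007c0030009a) (Net.cons (nat_lit 4) (nat_lit 0x8070000030002060c02050b0a0205) (Net.cons (nat_lit 2) (nat_lit 0x1222300000320010302231200200202) (Net.cons (nat_lit 1) (nat_lit 0x1411401400414410054100540141051) (Net.cons (nat_lit 2) (nat_lit 0x2222000000222220002200020220002) (Net.cons (nat_lit 4) (nat_lit 0x808040008020000040a0a040802000e) (Net.cons (nat_lit 8) (nat_lit 0xa00c800340028000400e800000082) (Net.cons (nat_lit 16) (nat_lit 0x660000007210000033bc00008290) (Net.cons (nat_lit 32) (nat_lit 0x83e8d500000000005c67cd0e) (Net.cons (nat_lit 64) (nat_lit 0xa643d4c306df5260) Net.nil)))))))))))))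
noncomputable def n2 : Net := (Net.cons (nat_lit 64) (nat_lit 0xa643d44346de5324) (Net.cons (nat_lit 32) (nat_lit 0x882d000000000005c67cd4e) (Net.cons (nat_lit 16) (nat_lit 0x5448000027f5000032fd00008290) (Net.cons (nat_lit 8) (nat_lit 0x2e0004004100ff00fb00580000003e) (Net.cons (nat_lit 4) (nat_lit 0x80c0000090c00010a0a090a07020209) (Net.cons (nat_lit 2) (nat_lit 0x20030000010322200321311302222000) (Net.cons (nat_lit 1) (nat_lit 0x10450001140040545500105004141411) (Net.cons (nat_lit 2) (nat_lit 0x20000000000020020000200000200020) (Net.cons (nat_lit 4) (nat_lit 0xa00000804000204080802040a0808) (Net.cons (nat_lit 8) (nat_lit 0xe60000004000a000d000d00030002c) (Net.cons (nat_lit 16) (nat_lit 0xd00a0000b0f400003bb80000b820) (Net.cons (nat_lit 32) (nat_lit 0xacc29000000000004cd7cd4e) (Net.cons (nat_lit 64) (nat_lit 0xa643d44fc75acf02) Net.nil)))))))))))))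
noncomputable def n3 : Net := (Net.cons (nat_lit 64) (nat_lit 0xffffffe000000000) (Net.cons (nat_lit 32) (nat_lit 0xcd7bed61000000003f1672e4) (Net.cons (nat_lit 16) (nat_lit 0x288000002470000059240000c48c) (Net.cons (nat_lit 8) (nat_lit 0x1b00360000003b007600f50080008a) (Net.cons (nat_lit 4) (nat_lit 0xe0f0c0305030c0302060c0b00080c00) (Net.cons (nat_lit 2) (nat_lit 0x31200311120211320222010000230120) (Net.cons (nat_lit 1) (nat_lit 0x4444540101515411444001000410110) (Net.cons (nat_lit 2) (nat_lit 0x2022020002020000222002000220220) (Net.cons (nat_lit 4) (nat_lit 0x40c0008040e040c0000000800040c08) (Net.cons (nat_lit 8) (nat_lit 0x4003800500042006000ec0084000a) (Net.cons (nat_lit 16) (nat_lit 0xaf08000038cc00006b200000c48c) (Net.cons (nat_lit 32) (nat_lit 0xf77a1aa000000003f1672e4) (Net.cons (nat_lit 64) (nat_lit 0xffffffe000000000) Net.nil)))))))))))))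
noncomputable def n4 : Net := (Net.cons (nat_lit 64) (nat_lit 0xffffffe000000000) (Net.cons (nat_lit 32) (nat_lit 0xf0885e55000000003f1672e4) (Net.cons (nat_lit 16) (nat_lit 0x38cc0000af4800006b200000c48c) (Net.cons (nat_lit 8) (nat_lit 0x5000bd00bb0038001600130084000a) (Net.cons (nat_lit 4) (nat_lit 0xb010304030d02060600030800040c08) (Net.cons (nat_lit 2) (nat_lit 0x23120312203123112202020100210120) (Net.cons (nat_lit 1) (nat_lit 0x4511145440145014414010000440410) (Net.cons (nat_lit 2) (nat_lit 0x2002020020200022202000000200220) (Net.cons (nat_lit 4) (nat_lit 0xa0c0c0c000808080002000400080c00) (Net.cons (nat_lit 8) (nat_lit 0xc4006400360000000a0080008a) (Net.cons (nat_lit 16) (nat_lit 0x247000002800000059240000c48c) (Net.cons (nat_lit 32) (nat_lit 0x3284129e000000003f1672e4) (Net.cons (nat_lit 64) (nat_lit 0xffffffe000000000) Net.nil)))))))))))))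
noncomputable def n5 : Net := (Net.cons (nat_lit 64) (nat_lit 0x9dd9d00000000000) (Net.cons (nat_lit 32) (nat_lit 0xeb240980000000040028960) (Net.cons (nat_lit 16) (nat_lit 0x138000004b520000020000002970) (Net.cons (nat_lit 8) (nat_lit 0x840092004e00d0006000a400be0024) (Net.cons (nat_lit 4) (nat_lit 0xa00080a00020d00040a0c0c000008) (Net.cons (nat_lit 2) (nat_lit 0x20330003020010000002232220201022) (Net.cons (nat_lit 1) (nat_lit 0x10504105514105000004004145440014) (Net.cons (nat_lit 2) (nat_lit 0x20000000020000000002002220200022) (Net.cons (nat_lit 4) (nat_lit 0xa00080a0002000004000c000c0008) (Net.cons (nat_lit 8) (nat_lit 0x840082004a00d0004000a400420004) (Net.cons (nat_lit 16) (nat_lit 0x138000004b520000020000002970) (Net.cons (nat_lit 32) (nat_lit 0xe3200980000000040028960) (Net.cons (nat_lit 64) (nat_lit 0x9dd9d00000000000) Net.nil)))))))))))))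
noncomputable def n6 : Net := (Net.cons (nat_lit 64) (nat_lit 0x1122200000000000) (Net.cons (nat_lit 32) (nat_lit 0x173aed3100000000fa757b28) (Net.cons (nat_lit 16) (nat_lit 0xa212000008e80000224500009f5e) (Net.cons (nat_lit 8) (nat_lit 0x960051008c004000ee003b00ad0008) (Net.cons (nat_lit 4) (nat_lit 0x30c0c0001080802080a030d0c070a0c) (Net.cons (nat_lit 2) (nat_lit 0x103020320210001032200111312102) (Net.cons (nat_lit 1) (nat_lit 0x1401140410150011005515141014400) (Net.cons (nat_lit 2) (nat_lit 0x2020220200002000020002022000) (Net.cons (nat_lit 4) (nat_lit 0x40c0404080a00080c000804080208) (Net.cons (nat_lit 8) (nat_lit 0x96005a004c004000d20008002e0048) (Net.cons (nat_lit 16) (nat_lit 0xa2320000382a0000c80800001fd4) (Net.cons (nat_lit 32) (nat_lit 0x1738ed3000000000de7d636c) (Net.cons (nat_lit 64) (nat_lit 0x1122200000000000) Net.nil)))))))))))))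
noncomputable def n7 : Net := (Net.cons (nat_lit 64) (nat_lit 0x1122200000000000) (Net.cons (nat_lit 32) (nat_lit 0x173aed3000000000de7d636c) (Net.cons (nat_lit 16) (nat_lit 0x81320000382a0000ea0800001fd4) (Net.cons (nat_lit 8) (nat_lit 0x960025004c004000f200fb007e0048) (Net.cons (nat_lit 4) (nat_lit 0x304040c0b080a00080e0a050405020c) (Net.cons (nat_lit 2) (nat_lit 0x302010210220001031201131132302) (Net.cons (nat_lit 1) (nat_lit 0x10104041110150014005514514404100) (Net.cons (nat_lit 2) (nat_lit 0x202000200200002000002022202200) (Net.cons (nat_lit 4) (nat_lit 0x20c000e0e080802080a08080c000a08) (Net.cons (nat_lit 8) (nat_lit 0x94002c008c004000e600d000a80008) (Net.cons (nat_lit 16) (nat_lit 0x8010000008e80000224c00009f5e) (Net.cons (nat_lit 32) (nat_lit 0x173aed3000000000fa757b28) (Net.cons (nat_lit 64) (nat_lit 0x1122200000000000) Net.nil)))))))))))))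
noncomputable def n8 : Net := (Net.cons (nat_lit 64) (nat_lit 0xa97cd00000000000) (Net.cons (nat_lit 32) (nat_lit 0xcde8dfab00000000ffffe000) (Net.cons (nat_lit 16) (nat_lit 0x884e0000e97d0000f01300000000) (Net.cons (nat_lit 8) (nat_lit 0xb2004300d000bd004b00f00014005a) (Net.cons (nat_lit 4) (nat_lit 0xb0c050a02060c020c00000e000d0d00) (Net.cons (nat_lit 2) (nat_lit 0x200223200300120003012200122020) (Net.cons (nat_lit 1) (nat_lit 0x14400101401140114515040500011004) (Net.cons (nat_lit 2) (nat_lit 0x2000200200220222020000000022000) (Net.cons (nat_lit 4) (nat_lit 0x8040802000a0c0a0a040808000c0800) (Net.cons (nat_lit 8) (nat_lit 0xba008200c000bc00e800e000140048) (Net.cons (nat_lit 16) (nat_lit 0xc0e20000c9600000301400000000) (Net.cons (nat_lit 32) (nat_lit 0xccc8cfa000000000ffffe000) (Net.cons (nat_lit 64) (nat_lit 0xa97cd00000000000) Net.nil)))))))))))))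
noncomputable def n9 : Net := (Net.cons (nat_lit 64) (nat_lit 0xa97cd00000000000) (Net.cons (nat_lit 32) (nat_lit 0x7fdffc5d00000000ffffe000) (Net.cons (nat_lit 16) (nat_lit 0x2e8d00002a4e0000e32a00000000) (Net.cons (nat_lit 8) (nat_lit 0x1005800bc003c0054008d0014004a) (Net.cons (nat_lit 4) (nat_lit 0xc0206010b080a0b04040c0600010500) (Net.cons (nat_lit 2) (nat_lit 0x2020223230201120300232000210220) (Net.cons (nat_lit 1) (nat_lit 0x1144414040005404141055100100104) (Net.cons (nat_lit 2) (nat_lit 0x2000222020000002202000000200200) (Net.cons (nat_lit 4) (nat_lit 0x20408080806020000080c00000000) (Net.cons (nat_lit 8) (nat_lit 0x5000d400be00140088000800140058) (Net.cons (nat_lit 16) (nat_lit 0x469000002b620000862400000000) (Net.cons (nat_lit 32) (nat_lit 0xf6d3fc5000000000ffffe000) (Net.cons (nat_lit 64) (nat_lit 0xa97cd00000000000) Net.nil)))))))))))))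
noncomputable def n10 : Net := (Net.cons (nat_lit 64) (nat_lit 0xc000000000000000) (Net.cons (nat_lit 32) (nat_lit 0xf00000000000000080000000) (Net.cons (nat_lit 16) (nat_lit 0xc0010000800000000000) (Net.cons (nat_lit 8) (nat_lit 0x81004900e800f800d000a0) (Net.cons (nat_lit 4) (nat_lit 0x809010e0c090e0a08080a00) (Net.cons (nat_lit 2) (nat_lit 0x10000001021013213101311203313210) (Net.cons (nat_lit 1) (nat_lit 0x10000001011154445111144551111544) (Net.cons (nat_lit 2) (nat_lit 0x22200020222002000000022) (Net.cons (nat_lit 4) (nat_lit 0x800000c0a000e0404080400) (Net.cons (nat_lit 8) (nat_lit 0x2200f000f400e000c0) (Net.cons (nat_lit 16) (nat_lit 0x40000000800000000000) (Net.cons (nat_lit 32) (nat_lit 0xf00000000000000080000000) (Net.cons (nat_lit 64) (nat_lit 0xc000000000000000) Net.nil)))))))))))))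
noncomputable def n11 : Net := (Net.cons (nat_lit 64) (nat_lit 0xc000000000000000) (Net.cons (nat_lit 32) (nat_lit 0xf00000000000000080000000) (Net.cons (nat_lit 16) (nat_lit 0xc0000000800000000000) (Net.cons (nat_lit 8) (nat_lit 0xc0009900f0008100e000c0) (Net.cons (nat_lit 4) (nat_lit 0xc0a0c080a0e0c0c04080500) (Net.cons (nat_lit 2) (nat_lit 0x30000003012201233112131103333112) (Net.cons (nat_lit 1) (nat_lit 0x40000004041141515441154154444514) (Net.cons (nat_lit 2) (nat_lit 0x20000002000022000220200200020020) (Net.cons (nat_lit 4) (nat_lit 0xc000e000c040a0c08080200) (Net.cons (nat_lit 8) (nat_lit 0xc0003400e8000000d000a0) (Net.cons (nat_lit 16) (nat_lit 0xc0000000800000000000) (Net.cons (nat_lit 32) (nat_lit 0xf00000000000000080000000) (Net.cons (nat_lit 64) (nat_lit 0xc000000000000000) Net.nil)))))))))))))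
noncomputable def n12 : Net := (Net.cons (nat_lit 64) (nat_lit 0x929aa87b5f2caf85) (Net.cons (nat_lit 32) (nat_lit 0x9effd868000000008fbc7547) (Net.cons (nat_lit 16) (nat_lit 0xee300009782000090040000ea66) (Net.cons (nat_lit 8) (nat_lit 0x3e00f4009000f70009000500880076) (Net.cons (nat_lit 4) (nat_lit 0xa040005050006010a000204030a0f04) (Net.cons (nat_lit 2) (nat_lit 0x20033201110231023130230111220030) (Net.cons (nat_lit 1) (nat_lit 0x14014045100015110014044010051040) (Net.cons (nat_lit 2) (nat_lit 0x20020200000020000020000002020) (Net.cons (nat_lit 4) (nat_lit 0x408080000000a080c060002000a04) (Net.cons (nat_lit 8) (nat_lit 0x2e00fa001000d400400046008c0036) (Net.cons (nat_lit 16) (nat_lit 0x9e920000b4020000d1080000a644) (Net.cons (nat_lit 32) (nat_lit 0xc65f04400000000c798254c) (Net.cons (nat_lit 64) (nat_lit 0x929aa879de55024a) Net.nil)))))))))))))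
def B : List (List ℕ) := [[0, 0], [1, 2], [2, 1], [3, 4], [4, 3], [5, 5], [6, 7], [7, 6], [8, 9], [9, 8], [10, 11], [11, 10], [10, 10, 10], [6, 6, 6, 6], [8, 8, 8, 8], [6, 9, 6, 9, 11], [6, 8, 6, 8, 6, 8, 6, 8, 6, 8, 6, 8, 6, 8, 6, 8, 6, 8, 6, 8, 6, 8, 6, 8], [6, 8, 7, 9, 6, 8, 7, 9, 6, 8, 7, 9, 6, 8, 7, 9, 6, 8, 7, 9, 6, 8, 7, 9], [6, 9, 6, 9, 6, 9, 6, 9, 6, 9, 6, 9], [8, 6, 9, 10, 7, 11], [9, 7, 10, 7, 7, 10], [3, 3, 3, 3, 3, 3, 3], [3, 5, 3, 5, 3, 5, 7], [4, 5, 4, 4, 4, 5, 4, 4, 9], [3, 5, 3, 5, 3, 5, 3, 5, 3, 5, 3, 5, 3, 5, 3, 5, 3, 5, 3, 5, 3, 5, 3, 5], [3, 5, 4, 5, 3, 5, 4, 5], [4, 8, 4, 8, 4, 8], [3, 5, 7, 5, 4, 6], [5, 9, 5, 10, 9, 11, 7], [4, 10, 6, 4, 10, 8, 11], [5, 3, 5, 4, 8, 10, 6], [4, 8, 7, 4, 4, 7, 8], [4, 7, 4, 11, 4, 6, 9], [5, 11, 9, 6, 5, 7, 11], [5, 7, 5, 3, 7, 4, 9], [3, 6, 8, 6, 3, 6, 8, 6], [3, 5, 10, 3, 11, 4, 11, 6], [1, 1, 1], [2, 0, 1, 0, 4], [1, 0, 1, 0, 2, 0, 2, 0, 2, 0, 2, 0, 1, 0, 2, 5], [0, 1, 0, 1,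 0, 1, 0, 1, 0, 1, 0, 1, 0, 1, 0, 1, 0, 1, 0, 1], [0, 1, 0, 2, 0, 1, 0, 2, 0, 1, 0, 2, 0, 1, 0, 2, 0, 1, 0, 2, 0, 1, 0, 2, 0, 1, 0, 2], [0, 2, 0, 2, 0, 2, 0, 2, 0, 2, 0, 2, 0, 2, 0, 2, 0, 2, 0, 2], [2, 7, 1, 4, 6, 4, 4], [1, 3, 5, 4, 2, 7, 7], [1, 10, 2, 11, 3, 5, 10, 5], [2, 8, 2, 8, 2, 8], [0, 7, 5, 6, 0, 7, 5, 6], [1, 6, 11, 5, 1, 6, 11, 5], [2, 10, 4, 9, 1, 6, 4, 7, 9], [2, 3, 6, 8, 1, 11, 3, 10, 8], [0, 8, 3, 10, 0, 3, 11, 4, 9], [2, 8, 0, 10, 1, 5, 10, 9, 7], [2, 3, 9, 4, 1, 3, 8, 5, 9], [0, 10, 0, 9, 0, 8, 3, 11, 4], [1, 8, 2, 9, 2, 5, 3, 9, 5], [1, 5, 11, 3, 1, 11, 5, 11, 3], [0, 1, 9, 2, 0, 5, 11, 5, 6], [0, 2, 7, 3, 2, 0, 7, 3, 3], [2, 4, 4, 5, 1, 8, 5, 11, 7, 4], [2, 4, 6, 6, 2, 5, 11, 7, 3, 6], [1, 8, 11, 1, 0, 5, 4, 9, 5, 4], [1, 4, 7, 5, 2, 9, 3, 5, 10, 6], [0, 11, 6, 11, 0, 10, 4, 8, 4, 5], [2, 9, 5, 6, 2, 11, 4, 7, 9, 4], [0, 7, 8, 5, 0, 9, 10, 7, 4, 4], [2, 8, 6, 2, 0, 5, 6, 4, 4, 5], [0, 5, 0, 3, 9, 2, 10, 4, 11],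 [1, 8, 0, 3, 5, 0, 10, 3, 11], [0, 5, 1, 9, 5, 2, 11, 6, 3, 11], [0, 5, 8, 11, 5, 0, 4, 8, 5, 9]]
def inv (x : ℕ) : ℕ := [0, 2, 1, 4, 3, 5, 7, 6, 9, 8, 11, 10].getD x 0
noncomputable def nl : List Net := [n0, n1, n2, n3, n4, n5, n6, n7, n8, n9, n10, n11, n12]
theorem nl_ok : allL (Net.ok (nat_lit 128)) nl = true := by decide +kernel
noncomputable def R : Rep := mkRep (nat_lit 7) (nat_lit 128) nl (by decide +kernel) nl_ok
def defs : List (List ℕ) := [[2, 0, 2, 0]]
theorem R_ge : ∀ x, 12 + defs.length ≤ x → R.p x = 1 := fun _ hx => mkRep_ge hx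
def ngSt : List (List (ℕ × List ℕ) × List ℕ × ℕ × ℕ) := [([(0, []), (0, [])], [0], 7, 2), ([(1, [])], [3], 2, 7), ([(2, [])], [4], 1, 7), ([(3, [])], [8], 3, 4), ([(4, [])], [9], 1, 4), ([(5, [])], [10], 4, 3), ([(6, [])], [11], 1, 3), ([(3, [])], [1], 5, 3), ([(8, [])], [2], 1, 3), ([(0, [10])], [5], 5, 2), ([(0, []), (0, [8])], [6], 3, 4), ([(11, [])], [7], 1, 4)]
def ngR : List (List ℕ) := ngRels inv ngSt [[12]]
def xR : List (List ℕ) := [wpow [12] 5]
theorem c0 : relsW R 0 R.lg ((B.drop 0).take 71) = true := by decide +kernel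
theorem c1 : defsChk R defs 12 = true := by decide +kernel
theorem c2 : Model.fixW R [] [[0], [1]] = true := by decide +kernel
theorem c3 : Model.growW R [[0], [1]] [0, 1, 0, 1, 0, 1, 0, 1, 0, 1, 0, 1, 0, 1, 0, 1, 1, 0, 1, 0] (Nat.pow 2 0) (ival 0 100) = true := by decide +kernel
theorem c4 : Model.fixW R [0] [[3], [5]] = true := by decide +kernel
theorem c5 : Model.growW R [[3], [5]] [0, 1, 0, 0, 1, 0, 0, 1, 0, 0, 1, 0, 0, 0, 1] (Nat.pow 2 37) (ival 37 63) = true := by decide +kernel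
theorem c6 : Model.fixW R [37, 0] [[6], [8]] = true := by decide +kernel
theorem c7 : Model.growW R [[6], [8]] [0, 1, 0, 1, 0, 1, 0, 0, 0] (Nat.pow 2 68) (ival 68 32) = true := by decide +kernel
theorem c8 : Model.fixW R [68, 37, 0] [[10]] = true := by decide +kernel
theorem c9 : Model.growW R [[10]] [0, 0] (Nat.pow 2 1) (ival 1 3) = true := by decide +kernel
theorem c10 : Model.growW R [[0], [1]] [0, 1, 0, 1, 0, 1, 0, 1, 0, 1, 0, 1, 0, 1, 0, 1, 1, 0, 1, 0] (Nat.pow 2 0) (ival 0 100) = true := by decide +kernel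
theorem c11 : Model.invW R [[0], [1], [2], [3], [4], [5], [6], [7], [8], [9], [10], [11]] 0 100 = true := by decide +kernel
theorem c12 : Model.fixW R [0] [[3], [5]] = true := by decide +kernel
theorem c13 : Model.growW R [[3], [5]] [1, 0, 0, 1, 0, 0, 0, 1, 0, 0, 0, 0, 0, 0] (Nat.pow 2 19) (ival 1 36) = true := by decide +kernel
theorem c14 : mapsW R [0] (Nat.pow 2 0) (Nat.pow 2 19) = true := by decide +kernel
theorem c15 : Model.growW R [[0], [3], [5]] [0, 2, 0, 1, 2, 0, 1, 2, 0, 1, 0, 2, 0] (Nat.pow 2 0) (ival 0 100) = true := by decide +kernel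
theorem c16 : Model.growW R [[3], [5]] [0, 1, 0, 1, 0, 0, 0, 1, 0, 0, 1, 0, 0, 1, 0, 0] (Nat.pow 2 59) (ival 37 63) = true := by decide +kernel
theorem c17 : mapsW R [1] (Nat.pow 2 0) (Nat.pow 2 59) = true := by decide +kernel
theorem c18 : Model.growW R [[1], [3], [5]] [0, 0, 1, 2, 0, 1, 0, 2, 1, 0, 1, 0, 2, 0] (Nat.pow 2 0) (ival 0 100) = true := by decide +kernel
theorem c19 : relsW R 0 R.lg ((ngR.drop 0).take 24) = true := by decide +kernel
theorem c20 : relsW R 0 R.lg ((xR.drop 0).take 1) = true := by decide +kernel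
end H0.MJ2p
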